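import Mathlib

/-!
Basics on regular local rings: quotient by part of a minimal generating set, domains,
minimal generators form a regular sequence, quotient by a nonzerodivisor.
-/

namespace Groth.Agent.CAlgReg

open IsLocalRing

universe u

variable {R : Type u} [CommRing R]

/-- natural number dimension -/
theorem exists_dim [IsLocalRing R] [IsNoetherianRing R] : ∃ n : ℕ, ringKrullDim R = n := by
  have h1 := ringKrullDim_le_spanFinrank_maximalIdeal R
  have h2 : ringKrullDim R ≠ ⊥ := ringKrullDim_ne_bot
  generalize hx : ringKrullDim R = x at h1 h2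
  induction x with
  | bot => exact absurd rfl h2
  | coe a =>
    induction a with
    | top =>
      exfalso
      exact absurd h1 (not_le.2 (by exact_mod_cast ENat.coe_lt_top _))
    | coe n => exact ⟨n, rfl⟩

theorem dim_eq_spanFinrank [IsRegularLocalRing R] :
    ringKrullDim R = (maximalIdeal R).spanFinrank :=
  ((isRegularLocalRing_iff R).1 ‹_›).symm

theorem spanFinrank_eq_of_dim [IsRegularLocalRing R] {d : ℕ} (hd : ringKrullDim R = d) :
    (maximalIdeal R).spanFinrank = d := by
  rw [dim_eq_spanFinrank] at hd; exact_mod_cast hd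

theorem card_ge_of_span_eq [IsRegularLocalRing R] {d : ℕ} (hd : ringKrullDim R = d)
    {s : Set R} (hs : s.Finite) (h : Ideal.span s = maximalIdeal R) : d ≤ s.ncard := by
  rw [← spanFinrank_eq_of_dim hd, ← h]
  exact Submodule.spanFinrank_span_le_ncard_of_finite hs

/-- The quotient of a regular local ring by part of a generating set of size `dim R` of the maximal
ideal is regular. -/
theorem quotient_span [IsRegularLocalRing R] {d : ℕ} (hd : ringKrullDim R = d)
    (s t : Finset R) (hst : Ideal.span (↑s ∪ ↑t : Set R) = maximalIdeal R)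
    (hcard : s.card + t.card ≤ d) :
    IsRegularLocalRing (R ⧸ Ideal.span (s : Set R)) ∧
      ringKrullDim (R ⧸ Ideal.span (s : Set R)) = t.card ∧ s.card + t.card = d := by
  classical
  set I := Ideal.span (s : Set R)
  have hI : I ≤ maximalIdeal R := hst ▸ Ideal.span_mono Set.subset_union_left
  have hne : I ≠ ⊤ := fun h => (maximalIdeal.isMaximal R).ne_top (top_unique (h ▸ hI))
  have : Nontrivial (R ⧸ I) := Ideal.Quotient.nontrivial_iff.2 hne
  have : IsLocalRing (R ⧸ I) := .of_surjective' (Ideal.Quotient.mk I) Ideal.Quotient.mk_surjective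
  have hm : maximalIdeal (R ⧸ I) = Ideal.span ((Ideal.Quotient.mk I) '' (t : Set R)) := by
    have h1 : (maximalIdeal R).map (Ideal.Quotient.mk I) = maximalIdeal (R ⧸ I) := by
      refine le_antisymm ?_ ?_
      · refine le_maximalIdeal fun h => (maximalIdeal.isMaximal R).ne_top ?_
        have := congrArg (Ideal.comap (Ideal.Quotient.mk I)) h
        rwa [Ideal.comap_map_of_surjective _ Ideal.Quotient.mk_surjective, Ideal.comap_top,
          ← RingHom.ker_eq_comap_bot, Ideal.mk_ker, sup_eq_left.2 hI] at this
      · intro y hy
        obtain ⟨y, rfl⟩ := Ideal.Quotient.mk_surjective y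
        exact Ideal.mem_map_of_mem _ fun hu => hy (hu.map _)
    rw [← h1, ← hst, Ideal.map_span, Set.image_union, Ideal.span_union]
    refine sup_eq_right.2 (Ideal.span_le.2 ?_)
    rintro _ ⟨y, hy, rfl⟩
    rw [Ideal.Quotient.eq_zero_iff_mem.2 (Ideal.subset_span hy)]
    exact zero_mem _
  have hle : (maximalIdeal (R ⧸ I)).spanFinrank ≤ t.card := by
    rw [hm]
    refine (Submodule.spanFinrank_span_le_ncard_of_finite (t.finite_toSet.image _)).trans ?_
    exact (Set.ncard_image_le t.finite_toSet).trans (Set.ncard_coe_finset t).le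
  obtain ⟨e, he⟩ := exists_dim (R := R ⧸ I)
  have he1 : e ≤ (maximalIdeal (R ⧸ I)).spanFinrank := by
    have := ringKrullDim_le_spanFinrank_maximalIdeal (R ⧸ I)
    rw [he] at this; exact_mod_cast this
  have hd1 : d ≤ e + I.spanFinrank := by
    have := ringKrullDim_le_ringKrullDim_quotient_add_spanFinrank I
      ((IsLocalRing.ringJacobson_eq_maximalIdeal (R := R)).symm ▸ hI)
    rw [hd, he] at this; exact_mod_cast this
  have hs : I.spanFinrank ≤ s.card :=
    (Submodule.spanFinrank_span_le_ncard_of_finite s.finite_toSet).trans (Set.ncard_coe_finset s).le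
  refine ⟨?_, ?_, by omega⟩
  · rw [isRegularLocalRing_iff, he]
    exact_mod_cast (show (maximalIdeal (R ⧸ I)).spanFinrank = e by omega)
  · rw [he]; exact_mod_cast (show e = t.card by omega)

/-- Elements of the maximal ideal with linearly independent images in the cotangent space extend to
a generating set of size equal to the number of minimal generators. -/
theorem exists_extend [IsLocalRing R] [IsNoetherianRing R] (s : Finset (maximalIdeal R))
    (hs : LinearIndepOn (ResidueField R) (maximalIdeal R).toCotangent (s : Set (maximalIdeal R))) :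
    ∃ t : Finset R, Ideal.span (((↑) '' (s : Set (maximalIdeal R))) ∪ ↑t : Set R) = maximalIdeal R ∧
      s.card + t.card ≤ (maximalIdeal R).spanFinrank := by
  classical
  let f := (maximalIdeal R).toCotangent
  have hind : LinearIndepOn (ResidueField R) id (f '' (s : Set (maximalIdeal R))) :=
    hs.id_image
  set B := hind.extend (Set.subset_univ _)
  let b := Module.Basis.extend hind
  have : Fintype B := FiniteDimensional.fintypeBasisIndex b
  have hcard : Fintype.card B = (maximalIdeal R).spanFinrank := by
    rw [← Module.finrank_eq_card_basis b, spanFinrank_maximalIdeal_eq_finrank_cotangentSpace]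
  let g : CotangentSpace R → maximalIdeal R :=
    Function.surjInv (maximalIdeal R).toCotangent_surjective
  have hg : ∀ v, f (g v) = v := Function.surjInv_eq _
  let t' : Finset (maximalIdeal R) :=
    (Finset.univ.filter fun v : B => (v : CotangentSpace R) ∉ f '' (s : Set (maximalIdeal R))).image fun v => g v.1
  refine ⟨t'.image (↑), ?_, ?_⟩
  · have : Submodule.span R (↑(s ∪ t') : Set (maximalIdeal R)) = ⊤ := by
      rw [← CotangentSpace.span_image_eq_top_iff, eq_top_iff, ← b.span_eq]
      refine Submodule.span_mono ?_
      rintro _ ⟨v, rfl⟩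
      rw [Module.Basis.extend_apply_self]
      by_cases hv : (v : CotangentSpace R) ∈ f '' (s : Set (maximalIdeal R))
      · obtain ⟨x, hx, hxv⟩ := hv
        exact ⟨x, Finset.mem_coe.2 (Finset.mem_union_left _ hx), hxv⟩
      · exact ⟨g v, Finset.mem_coe.2 (Finset.mem_union_right _
          (Finset.mem_image.2 ⟨v, Finset.mem_filter.2 ⟨Finset.mem_univ _, hv⟩, rfl⟩)), hg _⟩
    have h2 := congrArg (Submodule.map (maximalIdeal R).subtype) this
    rw [Submodule.map_span, Submodule.map_top, Submodule.range_subtype, Finset.coe_union,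
      Set.image_union] at h2
    rw [Finset.coe_image]
    exact h2
  · have h1 : (t'.image ((↑) : maximalIdeal R → R)).card ≤
        (Finset.univ.filter fun v : B => (v : CotangentSpace R) ∉ f '' (s : Set (maximalIdeal R))).card :=
      Finset.card_image_le.trans Finset.card_image_le
    have h2 : s.card = (Finset.univ.filter fun v : B =>
        (v : CotangentSpace R) ∈ f '' (s : Set (maximalIdeal R))).card := by
      refine Finset.card_bij (fun x hx => ⟨f x, hind.subset_extend _ ⟨x, hx, rfl⟩⟩)
        (fun x hx => Finset.mem_filter.2 ⟨Finset.mem_univ _, x, hx, rfl⟩)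
        (fun x hx y hy hxy => hs.injOn hx hy (congrArg Subtype.val hxy))
        (fun v hv => ?_)
      obtain ⟨x, hx, hxv⟩ := (Finset.mem_filter.1 hv).2
      exact ⟨x, hx, Subtype.ext hxv⟩
    have h3 := Finset.card_filter_add_card_filter_not (s := (Finset.univ : Finset B))
      (fun v : B => (v : CotangentSpace R) ∈ f '' (s : Set (maximalIdeal R)))
    rw [Finset.card_univ, hcard] at h3
    omega

theorem quotient_span_singleton [IsRegularLocalRing R] {x : R} (hx : x ∈ maximalIdeal R)
    (hx2 : x ∉ maximalIdeal R ^ 2) {d : ℕ} (hd : ringKrullDim R = d) :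
    1 ≤ d ∧ IsRegularLocalRing (R ⧸ Ideal.span {x}) ∧
      ringKrullDim (R ⧸ Ideal.span {x}) = (d - 1 : ℕ) := by
  classical
  have h0 : (maximalIdeal R).toCotangent ⟨x, hx⟩ ≠ 0 := fun h =>
    hx2 ((Ideal.toCotangent_eq_zero _ _).1 h)
  obtain ⟨t, ht, hc⟩ := exists_extend (R := R) {⟨x, hx⟩} (by
    rw [Finset.coe_singleton]; exact LinearIndepOn.singleton h0)
  rw [Finset.coe_singleton, Set.image_singleton] at ht
  rw [spanFinrank_eq_of_dim hd, Finset.card_singleton] at hc
  obtain ⟨h1, h2, h3⟩ := quotient_span hd {x} t (by rw [Finset.coe_singleton]; exact ht)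
    (by rw [Finset.card_singleton]; exact hc)
  rw [Finset.coe_singleton] at h1 h2
  rw [Finset.card_singleton] at h3
  exact ⟨by omega, h1, by rw [h2]; congr; omega⟩

theorem not_maximalIdeal_le_sq [IsRegularLocalRing R] {d : ℕ} (hd : ringKrullDim R = (d + 1 : ℕ)) :
    ¬ maximalIdeal R ≤ maximalIdeal R ^ 2 := by
  intro h
  have h0 := Submodule.eq_bot_of_le_smul_of_le_jacobson_bot (maximalIdeal R) (maximalIdeal R)
    (maximalIdeal R).fg_of_isNoetherianRing (by rwa [smul_eq_mul, ← pow_two])
    (IsLocalRing.maximalIdeal_le_jacobson _)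
  have := spanFinrank_eq_of_dim hd
  rw [h0, Submodule.spanFinrank_bot] at this
  omega

theorem isDomain_aux : ∀ (d : ℕ) (R : Type u) [CommRing R] [IsRegularLocalRing R],
    ringKrullDim R = d → IsDomain R := by
  intro d
  induction d with
  | zero =>
    intro R _ _ hd
    have : maximalIdeal R = ⊥ := by
      have h := spanFinrank_eq_of_dim hd
      rwa [Submodule.spanFinrank_eq_zero_iff_eq_bot (maximalIdeal R).fg_of_isNoetherianRing] at h
    exact (isField_iff_maximalIdeal_eq.2 this).isDomain
  | succ d ih =>
    intro R _ _ hd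
    classical
    let fin : Set.Finite (minimalPrimes R) := minimalPrimes.finite_of_isNoetherianRing R
    let F : Option (minimalPrimes R) → Ideal R := fun i => i.elim (maximalIdeal R ^ 2) Subtype.val
    have : Fintype (minimalPrimes R) := fin.fintype
    obtain ⟨x, hxm, hx⟩ : ∃ x ∈ maximalIdeal R, ∀ i, x ∉ F i := by
      by_contra hcon
      push Not at hcon
      obtain ⟨i, -, hi⟩ := (Ideal.subset_union_prime (s := (Finset.univ : Finset (Option (minimalPrimes R))))
        (f := F) none none (fun i _ hi _ => by
          cases i with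
          | none => exact absurd rfl hi
          | some p => exact p.2.1.1)).1 (fun z hz => by
            obtain ⟨i, hi⟩ := hcon z hz
            exact Set.mem_biUnion (Finset.mem_univ i) hi)
      cases i with
      | none => exact not_maximalIdeal_le_sq hd hi
      | some p =>
        have hp : p.1 = maximalIdeal R :=
          le_antisymm (le_maximalIdeal p.2.1.1.ne_top) hi
        haveI := p.2.1.1
        have h4 := IsLocalRing.maximalIdeal_height_eq_ringKrullDim (R := R)
        rw [hd, ← hp, (Ideal.height_eq_zero_iff (I := p.1)).2 p.2] at h4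
        exact absurd h4 (by norm_cast)
    obtain ⟨-, hreg, hdim⟩ := quotient_span_singleton hxm (hx none) hd
    haveI := hreg
    haveI := ih (R ⧸ Ideal.span {x}) (by rw [hdim]; norm_num)
    have hP : (Ideal.span {x}).IsPrime := (Ideal.Quotient.isDomain_iff_prime _).1 inferInstance
    obtain ⟨p, hp, hple⟩ := Ideal.exists_minimalPrimes_le (bot_le : (⊥ : Ideal R) ≤ Ideal.span {x})
    haveI := hp.1.1
    have hp0 : p = ⊥ := by
      refine Submodule.eq_bot_of_le_smul_of_le_jacobson_bot (Ideal.span {x}) p
        p.fg_of_isNoetherianRing (fun y hy => ?_)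
        ((Ideal.span_singleton_le_iff_mem _).2 hxm |>.trans (IsLocalRing.maximalIdeal_le_jacobson _))
      obtain ⟨a, rfl⟩ := Ideal.mem_span_singleton'.1 (hple hy)
      have hxp : x ∉ p := hx (some ⟨p, hp⟩)
      rw [mul_comm]
      exact Submodule.smul_mem_smul (Ideal.mem_span_singleton_self x)
        ((hp.1.1.mem_or_mem hy).resolve_right hxp)
    haveI : (⊥ : Ideal R).IsPrime := hp0 ▸ hp.1.1
    exact (isDomain_iff_noZeroDivisors_and_nontrivial R).2
      ⟨⟨fun {a b} hab => by simpa using ‹(⊥ : Ideal R).IsPrime›.mem_or_mem (x := a) (y := b) (by simpa using hab)⟩,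
        inferInstance⟩

/-- A regular local ring is a domain. -/
theorem isDomain [IsRegularLocalRing R] : IsDomain R := by
  obtain ⟨d, hd⟩ := exists_dim (R := R)
  exact isDomain_aux d R hd

theorem isPrime_span [IsRegularLocalRing R] {d : ℕ} (hd : ringKrullDim R = d)
    (s t : Finset R) (hst : Ideal.span (↑s ∪ ↑t : Set R) = maximalIdeal R)
    (hcard : s.card + t.card ≤ d) : (Ideal.span (s : Set R)).IsPrime := by
  haveI := (quotient_span hd s t hst hcard).1
  exact (Ideal.Quotient.isDomain_iff_prime _).1 (isDomain (R := R ⧸ Ideal.span (s : Set R)))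

theorem isWeaklyRegular_aux : ∀ (d : ℕ) (R : Type u) [CommRing R] [IsRegularLocalRing R],
    ringKrullDim R = d → ∀ l : List R, l.length = d → Ideal.ofList l = maximalIdeal R →
      RingTheory.Sequence.IsWeaklyRegular R l := by
  intro d
  induction d with
  | zero =>
    intro R _ _ _ l hl _
    rw [List.length_eq_zero_iff.1 hl]
    exact .nil R R
  | succ d ih =>
    intro R _ _ hd l hl hspan
    match l, hl with
    | x :: rs, hl =>
      classical
      simp only [List.length_cons, Nat.add_right_cancel_iff] at hl
      have hset : Ideal.span (↑({x} : Finset R) ∪ ↑rs.toFinset : Set R) = maximalIdeal R := by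
        rw [← hspan, Ideal.ofList]
        congr 1
        ext; simp
      have hcard : ({x} : Finset R).card + rs.toFinset.card ≤ d + 1 := by
        have := rs.toFinset_card_le; rw [Finset.card_singleton]; omega
      obtain ⟨hreg, hdim, hc⟩ := quotient_span hd {x} rs.toFinset hset hcard
      rw [Finset.coe_singleton] at hreg hdim
      haveI := hreg
      haveI := isDomain (R := R)
      have hx : x ≠ 0 := by
        rintro rfl
        have := card_ge_of_span_eq hd rs.toFinset.finite_toSet (by
          rw [← hset, Finset.coe_singleton, Set.singleton_union, Ideal.span_insert_zero])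
        rw [Set.ncard_coe_finset] at this
        have := rs.toFinset_card_le
        omega
      have hxm : x ∈ maximalIdeal R := hspan ▸ Ideal.subset_span (by simp)
      refine .cons' (IsSMulRegular.of_ne_zero hx) ?_
      let e : QuotSMulTop x R ≃ₗ[R] R ⧸ Ideal.span {x} :=
        Submodule.quotEquivOfEq _ _ (by rw [← Submodule.ideal_span_singleton_smul, smul_eq_mul, Ideal.mul_top])
      rw [← Ideal.Quotient.algebraMap_eq, RingTheory.Sequence.isWeaklyRegular_map_algebraMap_iff,
        e.isWeaklyRegular_congr, ← RingTheory.Sequence.isWeaklyRegular_map_algebraMap_iff (R ⧸ Ideal.span {x})]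
      refine ih (R ⧸ Ideal.span {x}) ?_ _ (by simpa using hl) ?_
      · rw [hdim]; norm_cast; rw [Finset.card_singleton] at hc; omega
      · haveI : IsLocalHom (Ideal.Quotient.mk (Ideal.span {x})) :=
          IsLocalHom.of_surjective _ Ideal.Quotient.mk_surjective
        rw [Ideal.Quotient.algebraMap_eq, ← Ideal.map_ofList,
          ← IsLocalRing.map_maximalIdeal_of_surjective (Ideal.Quotient.mk (Ideal.span {x}))
            Ideal.Quotient.mk_surjective, ← hspan, Ideal.ofList_cons, Ideal.map_sup, Ideal.map_quotient_self,
          bot_sup_eq]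

/-- Minimal generators of the maximal ideal of a regular local ring form a regular sequence. -/
theorem isRegular_generators [IsRegularLocalRing R] {d : ℕ} (hd : ringKrullDim R = d) (l : List R)
    (hl : l.length = d) (hspan : Ideal.ofList l = maximalIdeal R) :
    RingTheory.Sequence.IsRegular R l := by
  refine ⟨isWeaklyRegular_aux d R hd l hl hspan, ?_⟩
  rw [hspan, smul_eq_mul, Ideal.mul_top]
  exact (maximalIdeal.isMaximal R).ne_top.symm

/-- If the quotient by a nonzerodivisor of the maximal ideal is regular, so is the ring. -/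
theorem of_quotient_span_singleton [IsLocalRing R] [IsNoetherianRing R] {x : R}
    (hx : x ∈ maximalIdeal R) (hreg : x ∈ nonZeroDivisors R)
    [IsRegularLocalRing (R ⧸ Ideal.span ({x} : Set R))] : IsRegularLocalRing R := by
  classical
  set S := R ⧸ Ideal.span ({x} : Set R)
  apply IsRegularLocalRing.of_spanFinrank_maximalIdeal_le
  have hdim : ringKrullDim S + 1 = ringKrullDim R :=
    ringKrullDim_quotient_span_singleton_succ_eq_ringKrullDim_of_mem_nonZeroDivisors hreg hx
  rw [← hdim, dim_eq_spanFinrank]
  haveI : IsLocalHom (Ideal.Quotient.mk (Ideal.span ({x} : Set R))) :=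
    IsLocalHom.of_surjective _ Ideal.Quotient.mk_surjective
  have hfg := (maximalIdeal S).fg_of_isNoetherianRing
  have hfin := Submodule.FG.finite_generators hfg
  let g : S → R := Function.surjInv Ideal.Quotient.mk_surjective
  have hspan : Ideal.span (insert x (g '' (maximalIdeal S).generators)) = maximalIdeal R := by
    have h2 : (Ideal.span (insert x (g '' (maximalIdeal S).generators))).map
        (Ideal.Quotient.mk (Ideal.span ({x} : Set R))) = maximalIdeal S := by
      rw [Ideal.map_span, Set.image_insert_eq, Set.image_image, Ideal.Quotient.eq_zero_iff_mem.2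
        (Ideal.mem_span_singleton_self x), Ideal.span_insert_zero]
      simp only [g, Function.surjInv_eq, Set.image_id']
      exact Submodule.span_generators _
    have h3 := congrArg (Ideal.comap (Ideal.Quotient.mk (Ideal.span ({x} : Set R)))) h2
    rwa [Ideal.comap_map_of_surjective _ Ideal.Quotient.mk_surjective, ← RingHom.ker_eq_comap_bot,
      Ideal.mk_ker, sup_eq_left.2 (Ideal.span_mono (by simp)),
      IsLocalRing.maximalIdeal_comap] at h3
  have hle : (maximalIdeal R).spanFinrank ≤ (maximalIdeal S).spanFinrank + 1 := by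
    rw [← hspan, ← Submodule.FG.generators_ncard hfg]
    refine (Submodule.spanFinrank_span_le_ncard_of_finite ((hfin.image g).insert x)).trans ?_
    exact (Set.ncard_insert_le _ _).trans (Nat.add_le_add_right (Set.ncard_image_le hfin) 1)
  exact_mod_cast hle

end Groth.Agent.CAlgReg
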