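import Mathlib
import Groth.Agent.CAlgReg.Basic

/-!
Projective dimension over regular local rings.
-/

namespace Groth.Agent.CAlgReg

open CategoryTheory Abelian IsLocalRing

universe u

variable {R : Type u} [CommRing R]

abbrev PdLT (R : Type u) [CommRing R] (M : Type u) [AddCommGroup M] [Module R M] (n : ℕ) : Prop :=
  HasProjectiveDimensionLT (ModuleCat.of R M) n

theorem pdLT_congr {M N : Type u} [AddCommGroup M] [Module R M] [AddCommGroup N] [Module R N]
    (e : M ≃ₗ[R] N) {n : ℕ} (h : PdLT R M n) : PdLT R N n :=
  (hasProjectiveDimensionLT_of_iso e.toModuleIso n)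

theorem pdLT_mono {M : Type u} [AddCommGroup M] [Module R M] {m n : ℕ} (hmn : m ≤ n)
    (h : PdLT R M m) : PdLT R M n :=
  hasProjectiveDimensionLT_of_ge _ m n hmn

theorem pdLT_one {M : Type u} [AddCommGroup M] [Module R M] [Module.Projective R M] :
    PdLT R M 1 :=
  projective_iff_hasProjectiveDimensionLT_one.1 (IsProjective.iff_projective (R := R) M |>.1 ‹_›)

/-- If the middle term is projective, the projective dimension goes up by at most one. -/
theorem pdLT_right {A B C : Type u} [AddCommGroup A] [Module R A] [AddCommGroup B] [Module R B]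
    [AddCommGroup C] [Module R C] [Module.Projective R B] (f : A →ₗ[R] B) (g : B →ₗ[R] C)
    (hf : Function.Injective f) (hfg : Function.Exact f g) (hg : Function.Surjective g) {n : ℕ}
    (h : PdLT R A (n + 1)) : PdLT R C (n + 2) := by
  let S : ShortComplex (ModuleCat.{u} R) :=
    ModuleCat.shortComplexOfCompEqZero f g hfg.linearMap_comp_eq_zero
  have hS : S.ShortExact := ModuleCat.shortComplex_shortExact S hfg hf hg
  exact (hS.hasProjectiveDimensionLT_X₃_iff n ((IsProjective.iff_projective (R := R) B).1 ‹_›)).2 h

theorem pdLT_left {A B C : Type u} [AddCommGroup A] [Module R A] [AddCommGroup B] [Module R B]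
    [AddCommGroup C] [Module R C] [Module.Projective R B] (f : A →ₗ[R] B) (g : B →ₗ[R] C)
    (hf : Function.Injective f) (hfg : Function.Exact f g) (hg : Function.Surjective g) {n : ℕ}
    (h : PdLT R C (n + 2)) : PdLT R A (n + 1) := by
  let S : ShortComplex (ModuleCat.{u} R) :=
    ModuleCat.shortComplexOfCompEqZero f g hfg.linearMap_comp_eq_zero
  have hS : S.ShortExact := ModuleCat.shortComplex_shortExact S hfg hf hg
  exact (hS.hasProjectiveDimensionLT_X₃_iff n ((IsProjective.iff_projective (R := R) B).1 ‹_›)).1 h

/-- A module projective over `R ⧸ (x)`, `x` regular, has projective dimension at most one. -/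
theorem pdLT_two_of_projective_quotient {x : R} (hx : IsSMulRegular R x) (N : Type u)
    [AddCommGroup N] [Module R N] [Module (R ⧸ Ideal.span {x}) N]
    [IsScalarTower R (R ⧸ Ideal.span {x}) N] [Module.Projective (R ⧸ Ideal.span {x}) N] :
    PdLT R N 2 := by
  classical
  obtain ⟨s, hs⟩ := Module.projective_def'.1 (inferInstance : Module.Projective (R ⧸ Ideal.span {x}) N)
  let F := N →₀ (R ⧸ Ideal.span {x})
  have hF : PdLT R F 2 := by
    let f : (N →₀ R) →ₗ[R] (N →₀ R) := x • LinearMap.id
    let g : (N →₀ R) →ₗ[R] F := Finsupp.mapRange.linearMap (Submodule.mkQ (Ideal.span {x}))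
    refine pdLT_right f g ?_ ?_ ?_ (n := 0) pdLT_one
    · intro a b hab
      ext i
      have := DFunLike.congr_fun hab i
      simp only [f, LinearMap.smul_apply, LinearMap.id_apply, Finsupp.smul_apply] at this
      exact hx this
    · intro a
      constructor
      · intro ha
        have h1 : ∀ i, ∃ c : R, c * x = a i := fun i => by
          have := DFunLike.congr_fun ha i
          simp only [g, Finsupp.mapRange.linearMap_apply, Finsupp.mapRange_apply, Submodule.mkQ_apply,
            Finsupp.zero_apply] at this
          exact Ideal.mem_span_singleton'.1 ((Submodule.Quotient.mk_eq_zero _).1 this)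
        choose c hc using h1
        refine ⟨Finsupp.onFinset a.support c (fun i hi => ?_), ?_⟩
        · rw [Finsupp.mem_support_iff]
          intro h0
          exact hi (hx (by simp only [smul_eq_mul, mul_zero]; rw [mul_comm, hc, h0]))
        · ext i; simp [f, mul_comm x, hc]
      · rintro ⟨b, rfl⟩
        ext i
        show g (x • b) i = 0
        rw [map_smul, Finsupp.smul_apply]
        show x • Submodule.Quotient.mk (b i) = 0
        rw [← Submodule.Quotient.mk_smul, Submodule.Quotient.mk_eq_zero, smul_eq_mul]
        exact Ideal.mem_span_singleton'.2 ⟨b i, mul_comm _ _⟩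
    · exact Finsupp.mapRange_surjective _ (map_zero _) (Submodule.mkQ_surjective _)
  let S : Retract (ModuleCat.of R N) (ModuleCat.of R F) :=
    { i := ModuleCat.ofHom (s.restrictScalars R)
      r := ModuleCat.ofHom ((Finsupp.linearCombination (R ⧸ Ideal.span {x}) id).restrictScalars R)
      retract := ModuleCat.hom_ext (LinearMap.ext fun y => LinearMap.congr_fun hs y) }
  exact S.hasProjectiveDimensionLT 2

/-- Change of rings: `pd_R ≤ pd_{R/x} + 1` for regular `x`. -/
theorem pdLT_of_quotient {x : R} (hx : IsSMulRegular R x) : ∀ (k : ℕ) (N : Type u)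
    [AddCommGroup N] [Module R N] [Module (R ⧸ Ideal.span {x}) N]
    [IsScalarTower R (R ⧸ Ideal.span {x}) N],
    PdLT (R ⧸ Ideal.span {x}) N (k + 1) → PdLT R N (k + 2) := by
  intro k
  induction k with
  | zero =>
    intro N _ _ _ _ h
    haveI : Module.Projective (R ⧸ Ideal.span {x}) N :=
      (IsProjective.iff_projective N).2 (projective_iff_hasProjectiveDimensionLT_one.2 h)
    exact pdLT_two_of_projective_quotient hx N
  | succ k ih =>
    intro N _ _ _ _ h
    let g : (N →₀ (R ⧸ Ideal.span {x})) →ₗ[R ⧸ Ideal.span {x}] N := Finsupp.linearCombination _ id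
    have hg : Function.Surjective g := Finsupp.linearCombination_id_surjective _ N
    have hK : PdLT (R ⧸ Ideal.span {x}) (LinearMap.ker g) (k + 1) :=
      pdLT_left (LinearMap.ker g).subtype g Subtype.val_injective (LinearMap.exact_subtype_ker_map g) hg h
    have hK' : PdLT R (LinearMap.ker g) (k + 2) := ih _ hK
    let fK : LinearMap.ker g →ₗ[R] (N →₀ (R ⧸ Ideal.span {x})) := (LinearMap.ker g).subtype.restrictScalars R
    let gK : (N →₀ (R ⧸ Ideal.span {x})) →ₗ[R] N := g.restrictScalars R
    let S : ShortComplex (ModuleCat.{u} R) :=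
      ModuleCat.shortComplexOfCompEqZero fK gK
        (LinearMap.ext fun (a : LinearMap.ker g) => (LinearMap.mem_ker.1 a.2 : g a.1 = 0))
    have hS : S.ShortExact := ModuleCat.shortComplex_shortExact S
      (fun a => LinearMap.exact_subtype_ker_map g a) Subtype.val_injective hg
    exact hS.hasProjectiveDimensionLT_X₃ (k + 2) hK'
      (pdLT_mono (by omega) (pdLT_two_of_projective_quotient hx (N →₀ (R ⧸ Ideal.span {x}))))

/-- Over a regular local ring of dimension `d`, finite modules have projective dimension `≤ d`. -/
theorem pdLT_of_finite : ∀ (d : ℕ) (R : Type u) [CommRing R] [IsRegularLocalRing R],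
    ringKrullDim R = d → ∀ (M : Type u) [AddCommGroup M] [Module R M] [Module.Finite R M],
      PdLT R M (d + 1) := by
  intro d
  induction d with
  | zero =>
    intro R _ _ hd M _ _ _
    have : maximalIdeal R = ⊥ := by
      have h := spanFinrank_eq_of_dim hd
      rwa [Submodule.spanFinrank_eq_zero_iff_eq_bot (maximalIdeal R).fg_of_isNoetherianRing] at h
    letI := (isField_iff_maximalIdeal_eq.2 this).toField
    haveI : Module.Free R M := Module.Free.of_divisionRing R M
    exact pdLT_one
  | succ d ih =>
    intro R _ _ hd M _ _ _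
    obtain ⟨x, hxm, hx2⟩ := Set.not_subset.1 (not_maximalIdeal_le_sq hd)
    obtain ⟨-, hreg, hdim⟩ := quotient_span_singleton hxm hx2 hd
    haveI := hreg
    haveI := isDomain (R := R)
    have hx0 : x ≠ 0 := fun h => hx2 (h ▸ zero_mem _)
    have hx : IsSMulRegular R x := IsSMulRegular.of_ne_zero hx0
    obtain ⟨n, g, hg⟩ := Module.Finite.exists_fin' R M
    let K := LinearMap.ker g
    have hKx : IsSMulRegular K x := fun a b hab => Subtype.ext (funext fun i => hx (by
      have := congrArg (fun z : K => (z : Fin n → R) i) hab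
      simpa using this))
    have h1 : PdLT (R ⧸ Ideal.span {x}) (QuotSMulTop x K) (d + 1) := by
      haveI : Module.Finite (R ⧸ Ideal.span {x}) (QuotSMulTop x K) :=
        Module.Finite.of_restrictScalars_finite R _ _
      exact ih _ (by rw [hdim]; norm_num) _
    have h2 : PdLT R (QuotSMulTop x K) (d + 2) := pdLT_of_quotient hx d _ h1
    have h3 : PdLT R K (d + 1) := by
      have h4 := (projectiveDimension_le_iff _ (d + 1)).2 h2
      rw [ModuleCat.projectiveDimension_quotSMulTop_eq_succ_of_isSMulRegular (ModuleCat.of R K) x hKx hxm,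
        Nat.cast_add, Nat.cast_one, ENat.WithBot.add_le_add_one_right_iff] at h4
      exact (projectiveDimension_le_iff _ d).1 h4
    exact pdLT_right K.subtype g Subtype.val_injective (LinearMap.exact_subtype_ker_map g) hg h3

/-- Auslander: vanishing of `Ext^{n+1}(R/I, -)` for all ideals gives it for all modules. -/
theorem subsingleton_ext_of_forall_quotient : ∀ (n : ℕ) (L : ModuleCat.{u} R),
    (∀ I : Ideal R, Subsingleton (Ext (ModuleCat.of R (R ⧸ I)) L (n + 1))) →
      ∀ M : ModuleCat.{u} R, Subsingleton (Ext M L (n + 1)) := by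
  intro n
  induction n with
  | zero =>
    intro L h M
    have hB : Module.Baer R L := by
      intro I g
      let S : ShortComplex (ModuleCat.{u} R) :=
        ModuleCat.shortComplexOfCompEqZero (Submodule.subtype I) (Submodule.mkQ I)
          (LinearMap.exact_subtype_mkQ I).linearMap_comp_eq_zero
      have hS : S.ShortExact := ModuleCat.shortComplex_shortExact S
        (LinearMap.exact_subtype_mkQ I) Subtype.val_injective (Submodule.mkQ_surjective _)
      obtain ⟨x₂, hx₂⟩ := Ext.contravariant_sequence_exact₁ hS L (Ext.mk₀ (ModuleCat.ofHom g))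
        (add_zero 1) (@Subsingleton.elim _ (h I) _ _)
      obtain ⟨φ, rfl⟩ := Ext.homEquiv₀.symm.surjective x₂
      refine ⟨φ.hom, fun x mem => ?_⟩
      rw [Ext.homEquiv₀_symm_apply, Ext.mk₀_comp_mk₀] at hx₂
      have := (Ext.mk₀_bijective _ _).1 hx₂
      exact LinearMap.congr_fun (congrArg ModuleCat.Hom.hom this) ⟨x, mem⟩
    haveI : Module.Injective R L := hB.injective
    haveI : Injective L := Module.injective_object_of_injective_module R L
    exact Ext.subsingleton_of_injective M L 0
  | succ n ih =>
    intro L h M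
    obtain ⟨P⟩ := EnoughInjectives.presentation L
    let S : ShortComplex (ModuleCat.{u} R) := ShortComplex.mk P.f (Limits.cokernel.π P.f) (by simp)
    have hS : S.ShortExact :=
      { exact := ShortComplex.exact_of_g_is_cokernel _ (Limits.cokernelIsCokernel _) }
    haveI hJ : Injective S.X₂ := P.injective
    have hC : ∀ I : Ideal R, Subsingleton (Ext (ModuleCat.of R (R ⧸ I)) S.X₃ (n + 1)) := by
      intro I
      refine subsingleton_of_forall_eq 0 fun y => ?_
      obtain ⟨y₂, hy₂⟩ := Ext.covariant_sequence_exact₃ _ hS y rfl (@Subsingleton.elim _ (h I) _ _)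
      rw [← hy₂, @Subsingleton.elim _ (Ext.subsingleton_of_injective (ModuleCat.of R (R ⧸ I)) S.X₂ n) y₂ 0,
        Ext.zero_comp]
    refine subsingleton_of_forall_eq 0 fun y => ?_
    obtain ⟨y₃, hy₃⟩ := Ext.covariant_sequence_exact₁ _ hS (n₁ := n + 2) y
      (@Subsingleton.elim _ (Ext.subsingleton_of_injective M S.X₂ (n + 1)) _ _) (n₀ := n + 1) rfl
    rw [← hy₃, @Subsingleton.elim _ (ih S.X₃ hC M) y₃ 0, Ext.zero_comp]

/-- Over a regular local ring of dimension `d`, all modules have projective dimension `≤ d`. -/
theorem pdLT_of_isRegularLocalRing [IsRegularLocalRing R] {d : ℕ} (hd : ringKrullDim R = d)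
    (M : Type u) [AddCommGroup M] [Module R M] : PdLT R M (d + 1) := by
  refine HasProjectiveDimensionLT.mk fun i hi L e => ?_
  obtain ⟨n, rfl⟩ : ∃ n, i = n + 1 := ⟨i - 1, by omega⟩
  refine @Subsingleton.elim _ (subsingleton_ext_of_forall_quotient n L (fun I => ?_) _) e 0
  exact @HasProjectiveDimensionLT.subsingleton _ _ _ _ (ModuleCat.of R (R ⧸ I)) (d + 1)
    (pdLT_of_finite d R hd (R ⧸ I)) (n + 1) hi L

end Groth.Agent.CAlgReg
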