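import Mathlib
import Groth.Agent.CAlgReg.GlobalDim

/-!
Serre's characterization of regular local rings; base change and descent of projective dimension.
-/

namespace Groth.Agent.CAlgReg

open CategoryTheory IsLocalRing TensorProduct

universe u

variable {R : Type u} [CommRing R]

theorem projective_of_pdLT_one {M : Type u} [AddCommGroup M] [Module R M] (h : PdLT R M 1) :
    Module.Projective R M :=
  (IsProjective.iff_projective (R := R) M).2 (projective_iff_hasProjectiveDimensionLT_one.2 h)

theorem baseChange_shortExact (S : Type u) [CommRing S] [Algebra R S] [Module.Flat R S]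
    {A B C : Type u} [AddCommGroup A] [Module R A] [AddCommGroup B] [Module R B] [AddCommGroup C]
    [Module R C] (f : A →ₗ[R] B) (g : B →ₗ[R] C) (hf : Function.Injective f)
    (hfg : Function.Exact f g) (hg : Function.Surjective g) :
    Function.Injective (f.baseChange S) ∧ Function.Exact (f.baseChange S) (g.baseChange S) ∧
      Function.Surjective (g.baseChange S) := by
  rw [LinearMap.baseChange_eq_ltensor, LinearMap.baseChange_eq_ltensor]
  exact ⟨Module.Flat.lTensor_preserves_injective_linearMap _ hf, lTensor_exact S hfg hg,
    LinearMap.lTensor_surjective S hg⟩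

theorem pdLT_baseChange (S : Type u) [CommRing S] [Algebra R S] [Module.Flat R S] :
    ∀ (n : ℕ) (M : Type u) [AddCommGroup M] [Module R M],
      PdLT R M (n + 1) → PdLT S (S ⊗[R] M) (n + 1) := by
  intro n
  induction n with
  | zero =>
    intro M _ _ h
    haveI := projective_of_pdLT_one h
    exact pdLT_one
  | succ n ih =>
    intro M _ _ h
    let g : (M →₀ R) →ₗ[R] M := Finsupp.linearCombination R id
    have hg : Function.Surjective g := Finsupp.linearCombination_id_surjective _ M
    have hK := ih _ (pdLT_left (A := LinearMap.ker g) (LinearMap.ker g).subtype g Subtype.val_injective (LinearMap.exact_subtype_ker_map g) hg h)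
    obtain ⟨h1, h2, h3⟩ := baseChange_shortExact S (A := LinearMap.ker g) (LinearMap.ker g).subtype g
      Subtype.val_injective (LinearMap.exact_subtype_ker_map g) hg
    exact pdLT_right _ _ h1 h2 h3 hK

theorem pdLT_localization (S : Submonoid R) (n : ℕ) (M : Type u) [AddCommGroup M] [Module R M]
    (h : PdLT R M (n + 1)) : PdLT (Localization S) ((Localization S) ⊗[R] M) (n + 1) :=
  haveI : Module.Flat R (Localization S) := IsLocalization.flat _ S
  pdLT_baseChange (Localization S) n M h

/-- Projective dimension of finite modules descends along faithfully flat maps. -/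
theorem pdLT_descend [IsNoetherianRing R] (S : Type u) [CommRing S] [Algebra R S]
    [Module.FaithfullyFlat R S] : ∀ (n : ℕ) (M : Type u) [AddCommGroup M] [Module R M]
      [Module.Finite R M], PdLT S (S ⊗[R] M) (n + 1) → PdLT R M (n + 1) := by
  intro n
  induction n with
  | zero =>
    intro M _ _ _ h
    haveI := projective_of_pdLT_one h
    haveI : Module.Flat R M := Module.Flat.of_flat_tensorProduct R M S
    haveI : Module.FinitePresentation R M := Module.finitePresentation_of_finite R M
    haveI := Module.Flat.projective_of_finitePresentation (R := R) (M := M)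
    exact pdLT_one
  | succ n ih =>
    intro M _ _ _ h
    obtain ⟨m, g, hg⟩ := Module.Finite.exists_fin' R M
    obtain ⟨hinj, hex, hsurj⟩ := baseChange_shortExact S (A := LinearMap.ker g) (LinearMap.ker g).subtype g
      Subtype.val_injective (LinearMap.exact_subtype_ker_map g) hg
    exact pdLT_right (LinearMap.ker g).subtype g Subtype.val_injective (LinearMap.exact_subtype_ker_map g) hg
      (ih _ (pdLT_left _ _ hinj hex hsurj h))

/-- `pd_{R/x} (M/xM) ≤ pd_R M` for `x` regular on `R` and on `M`. -/
theorem pdLT_quotSMulTop {x : R} (hxR : IsSMulRegular R x) : ∀ (n : ℕ) (M : Type u) [AddCommGroup M]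
    [Module R M], IsSMulRegular M x → PdLT R M (n + 1) →
      PdLT (R ⧸ Ideal.span {x}) (QuotSMulTop x M) (n + 1) := by
  intro n
  induction n with
  | zero =>
    intro M _ _ _ h
    haveI := projective_of_pdLT_one h
    let e : QuotSMulTop x M ≃ₗ[R ⧸ Ideal.span {x}] (R ⧸ Ideal.span {x}) ⊗[R] M :=
      { (QuotSMulTop.equivQuotTensor x M) with
        map_smul' := fun c y => LinearMap.map_smul_of_tower
          ((QuotSMulTop.equivQuotTensor x M).toLinearMap.extendScalarsOfSurjective
            (S := R ⧸ Ideal.span {x}) Ideal.Quotient.mk_surjective) c y }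
    exact pdLT_congr e.symm pdLT_one
  | succ n ih =>
    intro M _ _ hxM h
    let g : (M →₀ R) →ₗ[R] M := Finsupp.linearCombination R id
    have hg : Function.Surjective g := Finsupp.linearCombination_id_surjective _ M
    have hxF : IsSMulRegular (M →₀ R) x := fun a b hab => Finsupp.ext fun i => hxR (by
      simpa using DFunLike.congr_fun hab i)
    have hxK : IsSMulRegular (LinearMap.ker g) x := fun a b hab =>
      Subtype.ext (hxF (by simpa using congrArg Subtype.val hab))
    have hK := ih _ hxK (pdLT_left (A := LinearMap.ker g) (LinearMap.ker g).subtype g Subtype.val_injective (LinearMap.exact_subtype_ker_map g) hg h)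
    let f' : QuotSMulTop x (LinearMap.ker g) →ₗ[R ⧸ Ideal.span {x}] QuotSMulTop x (M →₀ R) :=
      (QuotSMulTop.map x (LinearMap.ker g).subtype).extendScalarsOfSurjective Ideal.Quotient.mk_surjective
    let g' : QuotSMulTop x (M →₀ R) →ₗ[R ⧸ Ideal.span {x}] QuotSMulTop x M :=
      (QuotSMulTop.map x g).extendScalarsOfSurjective Ideal.Quotient.mk_surjective
    haveI : Module.Projective (R ⧸ Ideal.span {x}) (QuotSMulTop x (M →₀ R)) :=
      inferInstance
    refine pdLT_right f' g' ?_ (QuotSMulTop.map_exact x (LinearMap.exact_subtype_ker_map g) hg)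
      (QuotSMulTop.map_surjective x hg) hK
    intro a b hab
    obtain ⟨a, rfl⟩ := Submodule.Quotient.mk_surjective _ a
    obtain ⟨b, rfl⟩ := Submodule.Quotient.mk_surjective _ b
    change Submodule.Quotient.mk (a : M →₀ R) = Submodule.Quotient.mk (b : M →₀ R) at hab
    rw [Submodule.Quotient.eq, Submodule.mem_smul_pointwise_iff_exists] at hab
    obtain ⟨c, -, hc⟩ := hab
    have hcK : c ∈ LinearMap.ker g := by
      rw [LinearMap.mem_ker]
      refine hxM ?_
      show x • g c = x • (0 : M)
      rw [← map_smul, hc, smul_zero, map_sub, LinearMap.mem_ker.1 a.2, LinearMap.mem_ker.1 b.2, sub_zero]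
    rw [Submodule.Quotient.eq, Submodule.mem_smul_pointwise_iff_exists]
    exact ⟨⟨c, hcK⟩, trivial, Subtype.ext hc⟩

/-- If the maximal ideal has a nonzero socle, finite modules of finite projective dimension are
free. -/
theorem free_of_pdLT_of_socle [IsLocalRing R] [IsNoetherianRing R] {s : R} (hs0 : s ≠ 0)
    (hs : ∀ a ∈ maximalIdeal R, a * s = 0) : ∀ (n : ℕ) (M : Type u) [AddCommGroup M] [Module R M]
      [Module.Finite R M], PdLT R M (n + 1) → Module.Free R M := by
  intro n
  induction n with
  | zero =>
    intro M _ _ _ h
    haveI := projective_of_pdLT_one h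
    exact Module.free_of_flat_of_isLocalRing
  | succ n ih =>
    intro M _ _ _ h
    classical
    let k := ResidueField R
    let b := Module.finBasis k (k ⊗[R] M)
    choose m hm using fun i => TensorProduct.mk_surjective R M k Ideal.Quotient.mk_surjective (b i)
    let g : (Fin (Module.finrank k (k ⊗[R] M)) → R) →ₗ[R] M := Fintype.linearCombination R m
    have hg : Function.Surjective g := by
      rw [← LinearMap.range_eq_top, Fintype.range_linearCombination]
      exact IsLocalRing.span_eq_top_of_tmul_eq_basis m b hm
    have hKm : ∀ v ∈ LinearMap.ker g, ∀ i, v i ∈ maximalIdeal R := by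
      intro v hv
      have h1 : ∑ i, residue R (v i) • b i = 0 := by
        have := congrArg (TensorProduct.mk R k M 1) (LinearMap.mem_ker.1 hv)
        rw [map_zero, Fintype.linearCombination_apply, map_sum] at this
        rw [← this]
        refine Finset.sum_congr rfl fun i _ => ?_
        rw [map_smul, hm, ← IsScalarTower.algebraMap_smul k (v i) (b i)]
        rfl
      intro i
      exact Ideal.Quotient.eq_zero_iff_mem.1 (Fintype.linearIndependent_iff.1 b.linearIndependent _ h1 i)
    haveI := ih (LinearMap.ker g)
      (pdLT_left (A := LinearMap.ker g) (LinearMap.ker g).subtype g Subtype.val_injective (LinearMap.exact_subtype_ker_map g) hg h)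
    have hK : Subsingleton (LinearMap.ker g) := by
      by_contra hne
      have hne : Nontrivial (LinearMap.ker g) := not_subsingleton_iff_nontrivial.1 hne
      let c := Module.Free.chooseBasis R (LinearMap.ker g)
      obtain ⟨j⟩ : Nonempty (Module.Free.ChooseBasisIndex R (LinearMap.ker g)) := c.index_nonempty
      have : s • c j = 0 := by
        refine Subtype.ext (funext fun i => ?_)
        show s * ((c j : LinearMap.ker g) : Fin _ → R) i = 0
        rw [mul_comm]
        exact hs _ (hKm _ (c j).2 i)
      have := congrArg (fun z => c.repr z j) this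
      simp at this
      exact hs0 this
    refine Module.Free.of_equiv (LinearEquiv.ofBijective g ⟨?_, hg⟩)
    rw [← LinearMap.ker_eq_bot, Submodule.eq_bot_iff]
    exact fun v hv => congrArg Subtype.val (Subsingleton.elim (⟨v, hv⟩ : LinearMap.ker g) 0)

theorem serre_aux : ∀ (d : ℕ) (R : Type u) [CommRing R] [IsLocalRing R] [IsNoetherianRing R],
    PdLT R (ResidueField R) d →
      IsRegularLocalRing R ∧ Module.finrank (ResidueField R) (CotangentSpace R) < d := by
  intro d
  induction d with
  | zero =>
    intro R _ _ _ h
    have := ModuleCat.isZero_iff_subsingleton.1 (hasProjectiveDimensionLT_zero_iff_isZero _ |>.1 h)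
    exact absurd this (not_subsingleton _)
  | succ d ih =>
    intro R _ _ _ h
    by_cases hm : maximalIdeal R = ⊥
    · have hf := isField_iff_maximalIdeal_eq.2 hm
      letI := hf.toField
      exact ⟨inferInstance, by rw [finrank_cotangentSpace_eq_zero_iff.2 hf]; exact Nat.succ_pos d⟩
    classical
    -- the maximal ideal is not an associated prime
    have hass : ∀ s : R, (∀ a ∈ maximalIdeal R, a * s = 0) → s = 0 := by
      intro s hs
      by_contra hs0
      haveI := free_of_pdLT_of_socle hs0 hs d (ResidueField R) h
      obtain ⟨a, ha, ha0⟩ := Submodule.exists_mem_ne_zero_of_ne_bot hm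
      let c := Module.Free.chooseBasis R (ResidueField R)
      obtain ⟨j⟩ : Nonempty (Module.Free.ChooseBasisIndex R (ResidueField R)) := c.index_nonempty
      have h1 : a • c j = 0 := by
        rw [← IsScalarTower.algebraMap_smul (ResidueField R) a (c j)]
        rw [show algebraMap R (ResidueField R) a = 0 from Ideal.Quotient.eq_zero_iff_mem.2 ha, zero_smul]
      have := congrArg (fun z => c.repr z j) h1
      simp at this
      exact ha0 this
    let fin := associatedPrimes.finite R R
    haveI : Fintype (associatedPrimes R R) := fin.fintype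
    let F : Option (associatedPrimes R R) → Ideal R := fun i => i.elim (maximalIdeal R ^ 2) Subtype.val
    obtain ⟨x, hxm, hx⟩ : ∃ x ∈ maximalIdeal R, ∀ i, x ∉ F i := by
      by_contra hcon
      push Not at hcon
      obtain ⟨i, -, hi⟩ := (Ideal.subset_union_prime (s := (Finset.univ : Finset (Option (associatedPrimes R R))))
        (f := F) none none (fun i _ hi _ => by
          cases i with
          | none => exact absurd rfl hi
          | some p => exact p.2.isPrime)).1 (fun z hz => by
            obtain ⟨i, hi⟩ := hcon z hz
            exact Set.mem_biUnion (Finset.mem_univ i) hi)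
      cases i with
      | none =>
        refine hm (Submodule.eq_bot_of_le_smul_of_le_jacobson_bot (maximalIdeal R) (maximalIdeal R)
          (maximalIdeal R).fg_of_isNoetherianRing (by rw [smul_eq_mul, ← pow_two]; exact hi)
          (maximalIdeal_le_jacobson _))
      | some p =>
        have hp : p.1 = maximalIdeal R := le_antisymm (le_maximalIdeal p.2.isPrime.ne_top) hi
        obtain ⟨-, s, hs⟩ := isAssociatedPrime_iff.1 p.2
        have hs0 : s = 0 := hass s fun a ha => by
          rw [← hp, hs, Submodule.mem_colon_singleton] at ha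
          simpa using ha
        apply p.2.isPrime.ne_top
        rw [hs, hs0]
        exact top_unique fun a _ => Submodule.mem_colon_singleton.2 (by simp)
    have hx2 : x ∉ maximalIdeal R ^ 2 := hx none
    have hnzd : x ∈ nonZeroDivisors R := by
      by_contra hn
      have : x ∈ ⋃ p ∈ associatedPrimes R R, (p : Set R) := by
        rw [biUnion_associatedPrimes_eq_compl_nonZeroDivisors]; exact hn
      obtain ⟨p, hp, hxp⟩ := Set.mem_iUnion₂.1 this
      exact hx (some ⟨p, hp⟩) hxp
    have hxR : IsSMulRegular R x := (isSMulRegular_iff_right_eq_zero_of_smul (M := R)).2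
      fun r hr => mem_nonZeroDivisors_iff_right.1 hnzd r (by rwa [smul_eq_mul, mul_comm] at hr)
    haveI : Nontrivial (R ⧸ Ideal.span ({x} : Set R)) := Ideal.Quotient.nontrivial_iff.2 fun hh =>
      (maximalIdeal.isMaximal R).ne_top (top_unique (hh ▸ (Ideal.span_singleton_le_iff_mem _).2 hxm))
    haveI : IsLocalRing (R ⧸ Ideal.span ({x} : Set R)) :=
      .of_surjective' (Ideal.Quotient.mk _) Ideal.Quotient.mk_surjective
    haveI : IsLocalHom (Ideal.Quotient.mk (Ideal.span ({x} : Set R))) := IsLocalHom.of_surjective _ Ideal.Quotient.mk_surjective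
    -- `pd` of the maximal ideal
    have hd : ∃ e, d = e + 1 := by
      rcases d with _ | e
      · exfalso
        haveI := projective_of_pdLT_one h
        haveI : Module.Free R (ResidueField R) := Module.free_of_flat_of_isLocalRing
        let c := Module.Free.chooseBasis R (ResidueField R)
        obtain ⟨j⟩ : Nonempty (Module.Free.ChooseBasisIndex R (ResidueField R)) := c.index_nonempty
        have h1 : x • c j = 0 := by
          rw [← IsScalarTower.algebraMap_smul (ResidueField R) x (c j),
            show algebraMap R (ResidueField R) x = 0 from Ideal.Quotient.eq_zero_iff_mem.2 hxm, zero_smul]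
        have := congrArg (fun z => c.repr z j) h1
        simp at this
        exact hx2 (this ▸ zero_mem _)
      · exact ⟨e, rfl⟩
    obtain ⟨e, rfl⟩ := hd
    have hmpd : PdLT R (maximalIdeal R) (e + 1) :=
      pdLT_left (maximalIdeal R).subtype (Submodule.mkQ (maximalIdeal R)) Subtype.val_injective
        (LinearMap.exact_subtype_mkQ _) (Submodule.mkQ_surjective _) h
    have hxm' : IsSMulRegular (maximalIdeal R) x := fun a b hab =>
      Subtype.ext (hxR (by simpa using congrArg Subtype.val hab))
    have hq := pdLT_quotSMulTop hxR e (maximalIdeal R) hxm' hmpd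
    -- `x` spans a direct summand of the cotangent space
    let v : CotangentSpace R := (maximalIdeal R).toCotangent ⟨x, hxm⟩
    have hv : v ≠ 0 := fun h0 => hx2 ((Ideal.toCotangent_eq_zero _ _).1 h0)
    obtain ⟨φ, hφ⟩ := LinearMap.exists_leftInverse_of_injective
      (LinearMap.toSpanSingleton (ResidueField R) (CotangentSpace R) v)
      (LinearMap.ker_eq_bot.2 (smul_left_injective _ hv))
    have hφv : φ v = 1 := by simpa using LinearMap.congr_fun hφ 1
    let ψ : maximalIdeal R →ₗ[R] ResidueField R := (φ.restrictScalars R) ∘ₗ (maximalIdeal R).toCotangent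
    let r : QuotSMulTop x (maximalIdeal R) →ₗ[R] ResidueField R :=
      Submodule.liftQ _ ψ (by
        intro y hy
        obtain ⟨z, -, rfl⟩ := (Submodule.mem_smul_pointwise_iff_exists _ _ _).1 hy
        rw [LinearMap.mem_ker, map_smul, ← IsScalarTower.algebraMap_smul (ResidueField R) x,
          show algebraMap R (ResidueField R) x = 0 from Ideal.Quotient.eq_zero_iff_mem.2 hxm, zero_smul])
    let i : ResidueField R →ₗ[R] QuotSMulTop x (maximalIdeal R) :=
      Submodule.liftQ (maximalIdeal R)
        (LinearMap.toSpanSingleton R _ (Submodule.Quotient.mk ⟨x, hxm⟩)) (by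
        intro a ha
        rw [LinearMap.mem_ker, LinearMap.toSpanSingleton_apply, ← Submodule.Quotient.mk_smul,
          Submodule.Quotient.mk_eq_zero, Submodule.mem_smul_pointwise_iff_exists]
        exact ⟨⟨a, ha⟩, trivial, Subtype.ext (mul_comm x a)⟩)
    let π : R ⧸ Ideal.span ({x} : Set R) →+* ResidueField R :=
      Ideal.Quotient.factor ((Ideal.span_singleton_le_iff_mem _).2 hxm)
    letI : Module (R ⧸ Ideal.span ({x} : Set R)) (ResidueField R) := Module.compHom _ π
    haveI : IsScalarTower R (R ⧸ Ideal.span ({x} : Set R)) (ResidueField R) :=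
      IsScalarTower.of_algebraMap_smul fun a z => rfl
    let S : Retract (ModuleCat.of (R ⧸ Ideal.span ({x} : Set R)) (ResidueField R))
        (ModuleCat.of (R ⧸ Ideal.span ({x} : Set R)) (QuotSMulTop x (maximalIdeal R))) :=
      { i := ModuleCat.ofHom (i.extendScalarsOfSurjective Ideal.Quotient.mk_surjective)
        r := ModuleCat.ofHom (r.extendScalarsOfSurjective Ideal.Quotient.mk_surjective)
        retract := ModuleCat.hom_ext (LinearMap.ext fun z => by
          obtain ⟨a, rfl⟩ := Ideal.Quotient.mk_surjective z
          show r (i (Submodule.Quotient.mk a)) = Submodule.Quotient.mk a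
          rw [show i (Submodule.Quotient.mk a) = a • Submodule.Quotient.mk (⟨x, hxm⟩ : maximalIdeal R) from rfl, map_smul,
            show r (Submodule.Quotient.mk ⟨x, hxm⟩) = ψ ⟨x, hxm⟩ from rfl]
          show a • φ v = _
          rw [hφv, ← IsScalarTower.algebraMap_smul (ResidueField R) a, smul_eq_mul, mul_one]
          rfl) }
    have h1 : PdLT (R ⧸ Ideal.span ({x} : Set R)) (ResidueField R) (e + 1) := by
      haveI := hq
      exact S.hasProjectiveDimensionLT (e + 1)
    let f0 : ResidueField R ≃+* ResidueField (R ⧸ Ideal.span ({x} : Set R)) :=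
      RingEquiv.ofBijective (ResidueField.map (Ideal.Quotient.mk _))
        ⟨RingHom.injective _, fun z => by
          obtain ⟨y, rfl⟩ := IsLocalRing.residue_surjective z
          obtain ⟨a, rfl⟩ := Ideal.Quotient.mk_surjective y
          exact ⟨residue R a, rfl⟩⟩
    let e1 : ResidueField R ≃ₗ[R ⧸ Ideal.span ({x} : Set R)] ResidueField (R ⧸ Ideal.span ({x} : Set R)) :=
      { f0.toAddEquiv with
        map_smul' := fun c z => by
          obtain ⟨a, rfl⟩ := Ideal.Quotient.mk_surjective c
          show f0 (π (Ideal.Quotient.mk _ a) * z) = residue _ (Ideal.Quotient.mk _ a) * f0 z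
          rw [map_mul]
          rfl }
    obtain ⟨hreg, hlt⟩ := ih (R ⧸ Ideal.span ({x} : Set R)) (pdLT_mono le_rfl (pdLT_congr e1 h1))
    haveI := hreg
    haveI := of_quotient_span_singleton hxm hnzd
    refine ⟨inferInstance, ?_⟩
    obtain ⟨n, hn⟩ := exists_dim (R := R)
    obtain ⟨h1n, -, hdim⟩ := quotient_span_singleton hxm hx2 hn
    rw [← spanFinrank_maximalIdeal_eq_finrank_cotangentSpace, spanFinrank_eq_of_dim hn]
    rw [← spanFinrank_maximalIdeal_eq_finrank_cotangentSpace, spanFinrank_eq_of_dim hdim] at hlt
    omega

theorem isRegularLocalRing_of_pdLT [IsLocalRing R] [IsNoetherianRing R] {n : ℕ}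
    (h : PdLT R (ResidueField R) n) : IsRegularLocalRing R :=
  (serre_aux n R h).1

end Groth.Agent.CAlgReg
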