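import Mathlib
import Groth.Agent.CAlgReg.Serre
import Groth.Agent.Depth.Basic

/-!
The Auslander–Buchsbaum formula.
-/

namespace Groth.Agent.CAlgReg

open CategoryTheory Abelian IsLocalRing Groth.Agent.Depth

universe u

variable {R : Type u} [CommRing R] [IsLocalRing R] [IsNoetherianRing R]

omit [IsNoetherianRing R] in
theorem smul_ext_residueField_eq_zero {N : ModuleCat.{u} R} {i : ℕ} {a : R} (ha : a ∈ maximalIdeal R)
    (y : Ext (ModuleCat.of R (ResidueField R)) N i) : a • y = 0 := by
  have h0 : a • 𝟙 (ModuleCat.of R (ResidueField R)) = 0 := by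
    refine ModuleCat.hom_ext (LinearMap.ext fun z => ?_)
    show a • z = 0
    rw [← IsScalarTower.algebraMap_smul (ResidueField R) a z,
      show algebraMap R (ResidueField R) a = 0 from Ideal.Quotient.eq_zero_iff_mem.2 ha, zero_smul]
  calc a • y = a • (Ext.mk₀ (𝟙 (ModuleCat.of R (ResidueField R)))).comp y (zero_add i) := by
        rw [Ext.mk₀_id_comp]
    _ = (Ext.mk₀ (a • 𝟙 (ModuleCat.of R (ResidueField R)))).comp y (zero_add i) := by
        rw [Ext.mk₀_smul, Ext.smul_comp]
    _ = 0 := by rw [h0, Ext.mk₀_zero, Ext.zero_comp]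

/-- A finite nonzero free module has the depth of the ring. -/
theorem depth_free {ι : Type} [Fintype ι] [Nonempty ι] :
    LocCoh.depth R (ι → R) = LocCoh.depth R R := by
  classical
  refine Depth.eq_of_forall_le_iff fun n => ?_
  rw [le_depth_iff_ext_residueField, le_depth_iff_ext_residueField]
  constructor
  · intro h i hi
    obtain ⟨j⟩ := ‹Nonempty ι›
    refine subsingleton_of_forall_eq 0 fun x => ?_
    have h1 : ModuleCat.ofHom (LinearMap.single R (fun _ : ι => R) j) ≫
        ModuleCat.ofHom (LinearMap.proj (R := R) (φ := fun _ : ι => R) j) = 𝟙 (ModuleCat.of R R) :=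
      ModuleCat.hom_ext (by ext; simp)
    rw [← Ext.comp_mk₀_id x, ← h1, ← Ext.mk₀_comp_mk₀, ← Ext.comp_assoc_of_third_deg_zero,
      @Subsingleton.elim _ (h i hi) (x.comp (Ext.mk₀ _) (add_zero i)) 0, Ext.zero_comp]
  · intro h i hi
    refine subsingleton_of_forall_eq 0 fun x => ?_
    have h1 : 𝟙 (ModuleCat.of R (ι → R)) = ∑ j, ModuleCat.ofHom (LinearMap.proj (R := R) (φ := fun _ : ι => R) j) ≫
        ModuleCat.ofHom (LinearMap.single R (fun _ : ι => R) j) := by
      refine ModuleCat.hom_ext (LinearMap.ext fun v => funext fun k => ?_)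
      simp [ModuleCat.hom_sum, Finset.sum_apply, Pi.single_apply]
    rw [← Ext.comp_mk₀_id x, h1, Ext.mk₀_sum, Ext.comp_sum]
    refine Finset.sum_eq_zero fun j _ => ?_
    rw [← Ext.mk₀_comp_mk₀, ← Ext.comp_assoc_of_third_deg_zero,
      @Subsingleton.elim _ (h i hi) (x.comp (Ext.mk₀ _) (add_zero i)) 0, Ext.zero_comp]

theorem depth_of_free (F : Type u) [AddCommGroup F] [Module R F] [Module.Finite R F]
    [Module.Free R F] [Nontrivial F] : LocCoh.depth R F = LocCoh.depth R R := by
  let b := Module.Free.chooseBasis R F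
  obtain ⟨n, ⟨e⟩⟩ : ∃ n : ℕ, Nonempty (F ≃ₗ[R] (Fin n → R)) :=
    ⟨_, ⟨(Module.finBasis R F).equivFun⟩⟩
  have : NeZero n := ⟨fun h => by subst h; exact not_subsingleton F e.toEquiv.subsingleton⟩
  rw [depth_congr e, depth_free]

omit [IsNoetherianRing R] in
theorem comp_mk₀_eq_zero {m n : ℕ} (φ : (Fin m → R) →ₗ[R] (Fin n → R))
    (hφ : ∀ v i, φ v i ∈ maximalIdeal R) {i : ℕ}
    (x : Ext (ModuleCat.of R (ResidueField R)) (ModuleCat.of R (Fin m → R)) i) :
    x.comp (Ext.mk₀ (ModuleCat.ofHom φ)) (add_zero i) = 0 := by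
  classical
  have h : ModuleCat.ofHom φ = ∑ p : Fin n × Fin m, (φ (Pi.single p.2 1) p.1) •
      ModuleCat.ofHom ((LinearMap.single R (fun _ : Fin n => R) p.1) ∘ₗ
        (LinearMap.proj (R := R) (φ := fun _ : Fin m => R) p.2)) := by
    refine ModuleCat.hom_ext (LinearMap.ext fun v => funext fun k => ?_)
    conv_lhs => rw [pi_eq_sum_univ' v]
    simp [Fintype.sum_prod_type, ModuleCat.hom_sum, Finset.sum_apply, Pi.single_apply, mul_comm]
  rw [h, Ext.mk₀_sum, Ext.comp_sum]
  refine Finset.sum_eq_zero fun p _ => ?_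
  rw [Ext.mk₀_smul, Ext.comp_smul]
  exact smul_ext_residueField_eq_zero (hφ _ _) _

theorem exists_minimal_cover (M : Type u) [AddCommGroup M] [Module R M] [Module.Finite R M] :
    ∃ (n : ℕ) (g : (Fin n → R) →ₗ[R] M), Function.Surjective g ∧
      ∀ v ∈ LinearMap.ker g, ∀ i, v i ∈ maximalIdeal R := by
  let k := ResidueField R
  let b := Module.finBasis k (TensorProduct R k M)
  choose m hm using fun i => TensorProduct.mk_surjective R M k Ideal.Quotient.mk_surjective (b i)
  let g : (Fin (Module.finrank k (TensorProduct R k M)) → R) →ₗ[R] M := Fintype.linearCombination R m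
  refine ⟨_, g, ?_, ?_⟩
  · rw [← LinearMap.range_eq_top, Fintype.range_linearCombination]
    exact IsLocalRing.span_eq_top_of_tmul_eq_basis m b hm
  · intro v hv i
    have h1 : ∑ i, residue R (v i) • b i = 0 := by
      have := congrArg (TensorProduct.mk R k M 1) (LinearMap.mem_ker.1 hv)
      rw [map_zero, Fintype.linearCombination_apply, map_sum] at this
      rw [← this]
      refine Finset.sum_congr rfl fun i _ => ?_
      rw [map_smul, hm, ← IsScalarTower.algebraMap_smul k (v i) (b i)]
      rfl
    exact Ideal.Quotient.eq_zero_iff_mem.1 (Fintype.linearIndependent_iff.1 b.linearIndependent _ h1 i)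

/-- The case of projective dimension one. -/
theorem depth_add_one_of_pdLT_two (M : Type u) [AddCommGroup M] [Module R M] [Module.Finite R M]
    [Nontrivial M] (h2 : PdLT R M 2) (h1 : ¬ PdLT R M 1) :
    LocCoh.depth R M + 1 = LocCoh.depth R R := by
  classical
  obtain ⟨n, g, hg, hmin⟩ := exists_minimal_cover (R := R) M
  have hproj := projective_of_pdLT_one
    (pdLT_left (A := LinearMap.ker g) (LinearMap.ker g).subtype g Subtype.val_injective
      (LinearMap.exact_subtype_ker_map g) hg h2)
  haveI : Module.Free R (LinearMap.ker g) := Module.free_of_flat_of_isLocalRing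
  obtain ⟨m, ⟨e⟩⟩ : ∃ m : ℕ, Nonempty (LinearMap.ker g ≃ₗ[R] (Fin m → R)) :=
    ⟨_, ⟨(Module.finBasis R (LinearMap.ker g)).equivFun⟩⟩
  let φ : (Fin m → R) →ₗ[R] (Fin n → R) := (LinearMap.ker g).subtype ∘ₗ e.symm.toLinearMap
  have hφ : Function.Injective φ := Subtype.val_injective.comp e.symm.injective
  have hex : Function.Exact φ g := by
    rw [LinearMap.exact_iff]
    rw [LinearMap.range_comp, LinearEquiv.range, Submodule.map_top, Submodule.range_subtype]
  have hφm : ∀ v i, φ v i ∈ maximalIdeal R := fun v i => hmin _ (e.symm v).2 i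
  have hm : NeZero m := ⟨fun hm => h1 (by
    subst hm
    haveI : Module.Free R M := Module.Free.of_equiv (LinearEquiv.ofBijective g ⟨by
      rw [← LinearMap.ker_eq_bot, Submodule.eq_bot_iff]
      exact fun v hv => congrArg Subtype.val (e.injective (Subsingleton.elim (e ⟨v, hv⟩) (e 0))), hg⟩)
    exact pdLT_one)⟩
  have hn : NeZero n := ⟨fun hn => by
    subst hn
    haveI := hg.subsingleton
    exact not_subsingleton M ‹_›⟩
  -- the ring has positive depth
  have hpos : 1 ≤ LocCoh.depth R R := by
    refine Order.one_le_iff_ne_zero.2 fun h0 => ?_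
    obtain ⟨-, s, hs⟩ := isAssociatedPrime_iff.1 (depth_eq_zero_iff.1 h0)
    have hs0 : s ≠ 0 := by
      intro hs0
      refine (maximalIdeal.isMaximal R).ne_top ?_
      rw [hs, hs0]
      exact top_unique fun a _ => Submodule.mem_colon_singleton.2 (by simp)
    haveI := free_of_pdLT_of_socle hs0 (fun a ha => by
      rw [hs, Submodule.mem_colon_singleton] at ha; simpa using ha) 1 M h2
    exact h1 pdLT_one
  let S := ModuleCat.shortComplexOfCompEqZero φ g hex.linearMap_comp_eq_zero
  have hS : S.ShortExact := ModuleCat.shortComplex_shortExact S hex hφ hg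
  let X := ModuleCat.of R (ResidueField R)
  refine Depth.eq_of_forall_le_iff fun t => ?_
  rcases t with _ | t
  · simp
  rw [Nat.cast_succ, ENat.add_le_add_iff_right ENat.one_ne_top, le_depth_iff_ext_residueField,
    ← Nat.cast_succ, le_depth_iff_ext_residueField]
  have hfree : ∀ (k : ℕ) [NeZero k] (j : ℕ), Subsingleton (Ext X (ModuleCat.of R R) j) →
      Subsingleton (Ext X (ModuleCat.of R (Fin k → R)) j) := by
    intro k _ j hj
    refine subsingleton_of_forall_eq 0 fun x => ?_
    have h3 : 𝟙 (ModuleCat.of R (Fin k → R)) = ∑ p, ModuleCat.ofHom (LinearMap.proj (R := R) (φ := fun _ : Fin k => R) p) ≫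
        ModuleCat.ofHom (LinearMap.single R (fun _ : Fin k => R) p) := by
      refine ModuleCat.hom_ext (LinearMap.ext fun v => funext fun q => ?_)
      simp [ModuleCat.hom_sum, Finset.sum_apply, Pi.single_apply]
    rw [← Ext.comp_mk₀_id x, h3, Ext.mk₀_sum, Ext.comp_sum]
    refine Finset.sum_eq_zero fun p _ => ?_
    rw [← Ext.mk₀_comp_mk₀, ← Ext.comp_assoc_of_third_deg_zero,
      @Subsingleton.elim _ hj (x.comp (Ext.mk₀ _) (add_zero j)) 0, Ext.zero_comp]
  constructor
  · intro h j hj
    obtain ⟨p⟩ : Nonempty (Fin m) := inferInstance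
    refine subsingleton_of_forall_eq 0 fun x => ?_
    rcases j with _ | j
    · have hh : (1 : ℕ∞) ≤ LocCoh.depth R R := hpos
      exact @Subsingleton.elim _ ((le_depth_iff_ext_residueField R (n := 1)).1 (by exact_mod_cast hh) 0 Nat.one_pos) _ _
    · have h4 : Subsingleton (Ext X (ModuleCat.of R (Fin m → R)) (j + 1)) := by
        refine subsingleton_of_forall_eq 0 fun z => ?_
        obtain ⟨w, hw⟩ := Ext.covariant_sequence_exact₁ X hS z (comp_mk₀_eq_zero φ hφm z) (n₀ := j) rfl
        rw [← hw, @Subsingleton.elim _ (h j (by omega)) w 0, Ext.zero_comp]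
      have h5 : ModuleCat.ofHom (LinearMap.single R (fun _ : Fin m => R) p) ≫
          ModuleCat.ofHom (LinearMap.proj (R := R) (φ := fun _ : Fin m => R) p) = 𝟙 (ModuleCat.of R R) :=
        ModuleCat.hom_ext (by ext; simp)
      rw [← Ext.comp_mk₀_id x, ← h5, ← Ext.mk₀_comp_mk₀, ← Ext.comp_assoc_of_third_deg_zero,
        @Subsingleton.elim _ h4 (x.comp (Ext.mk₀ _) (add_zero (j + 1))) 0, Ext.zero_comp]
  · intro h j hj
    refine subsingleton_of_forall_eq 0 fun x => ?_
    obtain ⟨y, hy⟩ := Ext.covariant_sequence_exact₃ X hS x (n₁ := j + 1) rfl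
      (@Subsingleton.elim _ (hfree m (j + 1) (h (j + 1) (by omega))) _ _)
    rw [← hy, @Subsingleton.elim _ (hfree n j (h j (by omega))) y 0, Ext.zero_comp]

theorem auslander_buchsbaum_aux : ∀ (e : ℕ) (M : Type u) [AddCommGroup M] [Module R M]
    [Module.Finite R M] [Nontrivial M], PdLT R M (e + 1) → ¬ PdLT R M e →
      LocCoh.depth R R = e + LocCoh.depth R M := by
  intro e
  induction e with
  | zero =>
    intro M _ _ _ _ h _
    haveI := projective_of_pdLT_one h
    haveI : Module.Free R M := Module.free_of_flat_of_isLocalRing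
    rw [depth_of_free M, Nat.cast_zero, zero_add]
  | succ e ih =>
    intro M _ _ _ _ h h'
    rcases e with _ | e
    · rw [← depth_add_one_of_pdLT_two M h h', Nat.cast_one, add_comm]
    obtain ⟨n, g, hg⟩ := Module.Finite.exists_fin' R M
    have hK : PdLT R (LinearMap.ker g) (e + 2) :=
      pdLT_left (A := LinearMap.ker g) (LinearMap.ker g).subtype g Subtype.val_injective
        (LinearMap.exact_subtype_ker_map g) hg h
    have hK' : ¬ PdLT R (LinearMap.ker g) (e + 1) := fun hh =>
      h' (pdLT_right (A := LinearMap.ker g) (LinearMap.ker g).subtype g Subtype.val_injective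
        (LinearMap.exact_subtype_ker_map g) hg hh)
    haveI : Nontrivial (LinearMap.ker g) := by
      by_contra hs
      haveI := not_nontrivial_iff_subsingleton.1 hs
      exact hK' (pdLT_mono (by omega) pdLT_one)
    have hR := ih (LinearMap.ker g) hK hK'
    haveI : NeZero n := ⟨fun hn => by
      subst hn
      haveI := hg.subsingleton
      exact not_subsingleton M ‹_›⟩
    have hF : LocCoh.depth R (Fin n → R) = LocCoh.depth R R := depth_free
    have hex := LinearMap.exact_subtype_ker_map g
    have hR1 : LocCoh.depth R R = ((e + 1 : ℕ) : ℕ∞) + LocCoh.depth R (LinearMap.ker g) := hR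
    have hKfin : LocCoh.depth R (LinearMap.ker g) ≠ ⊤ := by
      have h1 := depth_le_ringKrullDim (R := R) (M := LinearMap.ker g)
      obtain ⟨d, hd⟩ := exists_dim (R := R)
      intro ht
      rw [ht, hd] at h1
      exact absurd h1 (not_le.2 (by exact_mod_cast ENat.coe_lt_top d))
    obtain ⟨k, hk⟩ := ENat.ne_top_iff_exists.1 hKfin
    have hMK : LocCoh.depth R M + 1 = LocCoh.depth R (LinearMap.ker g) := by
      rw [← hk] at hR1
      refine le_antisymm ?_ ?_
      · by_contra hlt
        rw [not_le, ← hk] at hlt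
        have h2 : ((k + 1 : ℕ) : ℕ∞) ≤ LocCoh.depth R (LinearMap.ker g) := by
          refine le_idealDepth_left (M' := LinearMap.ker g) (f := (LinearMap.ker g).subtype) (g := g)
            Subtype.val_injective hg hex ?_ ?_
          · show ((k + 1 : ℕ) : ℕ∞) ≤ LocCoh.depth R (Fin n → R)
            rw [hF, hR1]; exact_mod_cast (by omega : k + 1 ≤ e + 1 + k)
          · exact Order.add_one_le_of_lt hlt
        rw [← hk] at h2
        exact absurd h2 (by exact_mod_cast (by omega : ¬ k + 1 ≤ k))
      · rcases k with _ | k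
        · rw [← hk]; simp
        rw [← hk, Nat.cast_succ]
        refine add_le_add ?_ le_rfl
        refine le_idealDepth_right (M' := LinearMap.ker g) (f := (LinearMap.ker g).subtype) (g := g)
          Subtype.val_injective hg hex (by exact hk.le) ?_
        show (k : ℕ∞) ≤ LocCoh.depth R (Fin n → R)
        rw [hF, hR1]; exact_mod_cast (by omega : k ≤ e + 1 + (k + 1))
    rw [hR1, ← hMK]; push_cast; ring

theorem auslander_buchsbaum (M : Type u) [AddCommGroup M] [Module R M] [Module.Finite R M]
    [Nontrivial M] (e : ℕ) (he : projectiveDimension (ModuleCat.of R M) = e) :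
    LocCoh.depth R R = e + LocCoh.depth R M := by
  refine auslander_buchsbaum_aux e M ((projectiveDimension_le_iff _ e).1 he.le) fun h => ?_
  have := projectiveDimension_lt_iff.2 h
  rw [he] at this
  exact lt_irrefl _ this

theorem depth_self_eq_dim [IsRegularLocalRing R] {d : ℕ} (hd : ringKrullDim R = d) :
    LocCoh.depth R R = d := by
  refine le_antisymm ?_ ?_
  · have h1 := depth_le_ringKrullDim (R := R) (M := R)
    rw [hd] at h1
    exact_mod_cast h1
  · have hfg : (maximalIdeal R).FG := (maximalIdeal R).fg_of_isNoetherianRing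
    obtain ⟨s, hcard, hs⟩ := Submodule.FG.exists_span_finset_card_eq_spanFinrank hfg
    have hl : Ideal.ofList s.toList = maximalIdeal R := by
      rw [← hs, Ideal.ofList]; simp
    have := le_idealDepth_of_isRegular (isRegular_generators hd s.toList
      (by rw [Finset.length_toList, hcard, spanFinrank_eq_of_dim hd]) hl)
      (I := maximalIdeal R) (fun r hr => by rw [← hl]; exact Ideal.subset_span hr)
    rw [Finset.length_toList, hcard, spanFinrank_eq_of_dim hd] at this
    exact this

theorem free_of_depth_eq_dim [IsRegularLocalRing R] (M : Type u) [AddCommGroup M] [Module R M]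
    [Module.Finite R M] (h : ((LocCoh.depth R M : ℕ∞) : WithBot ℕ∞) = ringKrullDim R) :
    Module.Free R M := by
  classical
  obtain ⟨d, hd⟩ := exists_dim (R := R)
  rcases subsingleton_or_nontrivial M with hM | hM
  · exact Module.Free.of_subsingleton R M
  have h0 : ¬ PdLT R M 0 := fun h0 => not_subsingleton M
    (ModuleCat.subsingleton_of_isZero ((hasProjectiveDimensionLT_zero_iff_isZero _).1 h0))
  have hex : ∃ e, PdLT R M (e + 1) := ⟨d, pdLT_of_isRegularLocalRing hd M⟩
  obtain ⟨h1, h2⟩ : PdLT R M (Nat.find hex + 1) ∧ ¬ PdLT R M (Nat.find hex) := by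
    refine ⟨Nat.find_spec hex, ?_⟩
    rcases he : Nat.find hex with _ | e
    · exact h0
    · exact Nat.find_min hex (by omega : e < Nat.find hex)
  have hab := auslander_buchsbaum_aux _ M h1 h2
  rw [depth_self_eq_dim hd] at hab
  rw [hd] at h
  have hM : LocCoh.depth R M = d := by exact_mod_cast h
  rw [hM] at hab
  have he : Nat.find hex = 0 := by
    have hab' : d = Nat.find hex + d := by exact_mod_cast hab
    omega
  rw [he] at h1
  haveI := projective_of_pdLT_one h1
  exact Module.free_of_flat_of_isLocalRing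

end Groth.Agent.CAlgReg
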